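import Groth.Agent.Lib.Proj26.Flat
import Groth.Agent.Lib.ModM1.Coh
import Mathlib.RingTheory.Finiteness.ModuleFinitePresentation
import Mathlib.RingTheory.IntegralClosure.IsIntegralClosure.Basic

/-! # Finite presentation of `D₊(f)` and of the twists over it

For a finitely presented graded algebra `A` and `f` of degree `d > 0`, the functions on `D₊(f)` and the sections of
`O(n)` there are direct summands of the finite quotient `A / (f - 1)`.
-/

set_option autoImplicit false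
set_option linter.style.haveILetI false
set_option backward.isDefEq.respectTransparency.types false

open CategoryTheory AlgebraicGeometry TopologicalSpace Opposite HomogeneousLocalization
open scoped DirectSum

universe u

namespace Groth.Agent.Proj26

open _root_.GrTwist Groth.Agent.GrTw11

variable {R A σ : Type u} [CommRing R] [CommRing A] [Algebra R A] [SetLike σ A] [AddSubgroupClass σ A]
  (𝒜 : ℕ → σ) [GradedRing 𝒜] {f : A} {d : ℕ}

/-- Sections of `O(n)` over `D₊(f)`. -/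
abbrev M (f : A) (n : ℤ) : Type u := Γ(_root_.GrTwist.twist 𝒜 n, Proj.basicOpen 𝒜 f)

/-- Functions on `D₊(f)`. -/
abbrev O (f : A) : Type u := Γ(Proj 𝒜, Proj.basicOpen 𝒜 f)

variable (f d) in
/-- `t` is the fraction `a / f ^ k`. -/
def Rep {n : ℤ} (t : M 𝒜 f n) (i k : ℕ) (a : A) : Prop :=
  a ∈ 𝒜 i ∧ (i : ℤ) = k * d + n ∧ ∀ x (hx : x ∈ Proj.basicOpen 𝒜 f),
    valHom 𝒜 x hx t = Localization.mk a ⟨f ^ k, pow_notMem 𝒜 hx k⟩

variable (hd : 0 < d) (hf : f ∈ 𝒜 d)
include hd hf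

theorem exists_rep {n : ℤ} (t : M 𝒜 f n) : ∃ i k a, Rep 𝒜 f d t i k a := by
  obtain ⟨i, k, a, h⟩ := exists_eq_frac_of_pos 𝒜 hd hf (n := n) t
  exact ⟨i, k, a, h⟩

omit hd hf in
theorem mk_pow_eq_one : Ideal.Quotient.mk (Ideal.span {f - 1}) f = 1 :=
  Ideal.Quotient.eq.2 (Ideal.mem_span_singleton_self _)

theorem rep_unique {n : ℤ} {t : M 𝒜 f n} {i k : ℕ} {a : A} {i' k' : ℕ} {a' : A} (h : Rep 𝒜 f d t i k a)
    (h' : Rep 𝒜 f d t i' k' a') :
    Ideal.Quotient.mk (Ideal.span {f - 1}) a = Ideal.Quotient.mk (Ideal.span {f - 1}) a' := by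
  have hdeg : k' • d + i = k • d + i' := by
    have h1 := h.2.1; have h2 := h'.2.1
    simp only [smul_eq_mul]
    have h3 : ((k' * d + i : ℕ) : ℤ) = ((k * d + i' : ℕ) : ℤ) := by push_cast; omega
    exact_mod_cast h3
  have hb : f ^ k' * a - f ^ k * a' ∈ 𝒜 (k' • d + i) :=
    sub_mem (SetLike.mul_mem_graded (SetLike.pow_mem_graded k' hf) h.1)
      (hdeg ▸ SetLike.mul_mem_graded (SetLike.pow_mem_graded k hf) h'.1)
  obtain ⟨N, hN⟩ := exists_pow_mul_eq_zero_of_forall 𝒜 hd hf hb fun x hx => by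
    obtain ⟨w, hw, he⟩ := (mk_eq_iff 𝒜 _ _).1 ((h.2.2 x hx).symm.trans (h'.2.2 x hx))
    exact ⟨w, hw, by rw [mul_sub, he, sub_self]⟩
  have h1 := congrArg (Ideal.Quotient.mk (Ideal.span {f - 1})) hN
  simp only [map_mul, map_pow, map_sub, mk_pow_eq_one, one_pow, one_mul, map_zero, sub_eq_zero] at h1
  exact h1

/-- The class in `A / (f - 1)`. -/
noncomputable def iotaFun {n : ℤ} (t : M 𝒜 f n) : A ⧸ Ideal.span {f - 1} :=
  Ideal.Quotient.mk _ (exists_rep 𝒜 hd hf t).choose_spec.choose_spec.choose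

theorem iotaFun_eq {n : ℤ} {t : M 𝒜 f n} {i k : ℕ} {a : A} (h : Rep 𝒜 f d t i k a) :
    iotaFun 𝒜 hd hf t = Ideal.Quotient.mk _ a :=
  rep_unique 𝒜 hd hf (exists_rep 𝒜 hd hf t).choose_spec.choose_spec.choose_spec h

omit hd in
theorem rep_add {n : ℤ} {t t' : M 𝒜 f n} {i k : ℕ} {a : A} {i' k' : ℕ} {a' : A} (h : Rep 𝒜 f d t i k a)
    (h' : Rep 𝒜 f d t' i' k' a') :
    Rep 𝒜 f d (t + t') (k' • d + i) (k + k') (f ^ k' * a + f ^ k * a') := by
  have hdeg : k' • d + i = k • d + i' := by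
    have h1 := h.2.1; have h2 := h'.2.1
    simp only [smul_eq_mul]
    have h3 : ((k' * d + i : ℕ) : ℤ) = ((k * d + i' : ℕ) : ℤ) := by push_cast; omega
    exact_mod_cast h3
  refine ⟨add_mem (SetLike.mul_mem_graded (SetLike.pow_mem_graded k' hf) h.1)
    (hdeg ▸ SetLike.mul_mem_graded (SetLike.pow_mem_graded k hf) h'.1), ?_, fun x hx => ?_⟩
  · have h1 := h.2.1; simp only [smul_eq_mul]; push_cast; linear_combination h1
  · rw [map_add, h.2.2 x hx, h'.2.2 x hx, Localization.add_mk]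
    refine (mk_eq_iff 𝒜 _ _).2 ⟨1, one_notMem_prime 𝒜 x, ?_⟩
    simp only [pow_add]; ring

/-- The class in `A / (f - 1)`, additively. -/
noncomputable def iota (n : ℤ) : M 𝒜 f n →+ A ⧸ Ideal.span {f - 1} :=
  AddMonoidHom.mk' (iotaFun 𝒜 hd hf) fun t t' => by
    obtain ⟨i, k, a, h⟩ := exists_rep 𝒜 hd hf t
    obtain ⟨i', k', a', h'⟩ := exists_rep 𝒜 hd hf t'
    rw [iotaFun_eq 𝒜 hd hf h, iotaFun_eq 𝒜 hd hf h', iotaFun_eq 𝒜 hd hf (rep_add 𝒜 hf h h')]
    simp [mk_pow_eq_one]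

omit hd hf in
/-- The section `1`. -/
noncomputable def oneSec : M 𝒜 f 0 :=
  frac 𝒜 (n := 0) _ (SetLike.GradedOne.one_mem (A := 𝒜)) (SetLike.GradedOne.one_mem (A := 𝒜)) (by simp)
    (fun x _ => one_notMem_prime 𝒜 x)

omit hd hf in
theorem valHom_smul {n : ℤ} (r : O 𝒜 f) (t : M 𝒜 f n) (x : ProjectiveSpectrum 𝒜) (hx : x ∈ Proj.basicOpen 𝒜 f) :
    valHom 𝒜 x hx (r • t) = GrTw11.valO r x hx * valHom 𝒜 x hx t :=
  GrTw11.val_smul r t x hx

omit hd hf in
theorem valHom_smul_one (r : O 𝒜 f) (x : ProjectiveSpectrum 𝒜) (hx : x ∈ Proj.basicOpen 𝒜 f) :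
    valHom 𝒜 x hx (r • oneSec 𝒜) = GrTw11.valO r x hx := by
  rw [valHom_smul, show valHom 𝒜 x hx (oneSec 𝒜 (f := f)) = Localization.mk 1 ⟨1, one_notMem_prime 𝒜 x⟩ from rfl]
  exact (congrArg _ Localization.mk_one).trans (mul_one _)

omit hd hf in
theorem rep_smul {n : ℤ} {r : O 𝒜 f} {t : M 𝒜 f n} {i k : ℕ} {b : A} {i' k' : ℕ} {a : A}
    (hr : Rep 𝒜 f d (r • oneSec 𝒜) i k b) (ht : Rep 𝒜 f d t i' k' a) :
    Rep 𝒜 f d (r • t) (i + i') (k + k') (b * a) := by
  refine ⟨SetLike.mul_mem_graded hr.1 ht.1, ?_, fun x hx => ?_⟩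
  · have h1 := hr.2.1; have h2 := ht.2.1; push_cast; linear_combination h1 + h2
  · rw [valHom_smul, ← valHom_smul_one, hr.2.2 x hx, ht.2.2 x hx, Localization.mk_mul]
    congr 1
    exact Subtype.ext (pow_add f k k').symm

theorem iota_smul {n : ℤ} (r : O 𝒜 f) (t : M 𝒜 f n) :
    iota 𝒜 hd hf n (r • t) = iota 𝒜 hd hf 0 (r • oneSec 𝒜) * iota 𝒜 hd hf n t := by
  obtain ⟨i, k, b, hr⟩ := exists_rep 𝒜 hd hf (r • oneSec 𝒜)
  obtain ⟨i', k', a, ht⟩ := exists_rep 𝒜 hd hf t
  exact (iotaFun_eq 𝒜 hd hf (rep_smul 𝒜 hr ht)).trans (by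
    rw [map_mul, ← iotaFun_eq 𝒜 hd hf hr, ← iotaFun_eq 𝒜 hd hf ht]; rfl)

theorem iota_one : iota 𝒜 hd hf 0 (oneSec 𝒜) = 1 := by
  refine (iotaFun_eq 𝒜 hd hf (i := 0) (k := 0) (a := 1) ⟨SetLike.GradedOne.one_mem, by simp, fun x hx => ?_⟩).trans
    (map_one _)
  show Localization.mk (1 : A) _ = _
  congr 1
  exact Subtype.ext (pow_zero f).symm

/-- The functions on `D₊(f)` map to `A / (f - 1)`. -/
noncomputable def iotaRing : O 𝒜 f →+* A ⧸ Ideal.span {f - 1} where
  toFun r := iota 𝒜 hd hf 0 (r • oneSec 𝒜)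
  map_one' := by rw [one_smul, iota_one]
  map_mul' r r' := by rw [mul_smul, iota_smul]
  map_zero' := by rw [zero_smul, map_zero]
  map_add' r r' := by rw [add_smul, map_add]

omit hd

/-- The projection on degree `e`. -/
noncomputable def piDeg (n : ℤ) (e : ℕ) : 𝒜 e →+ M 𝒜 f n :=
  if h : (d : ℤ) ∣ (e : ℤ) - n then
    AddMonoidHom.mk' (fun a => frac 𝒜 (n := n) (i := e + (-h.choose).toNat • d) (j := h.choose.toNat • d) _
      (SetLike.mul_mem_graded a.2 (SetLike.pow_mem_graded _ hf)) (SetLike.pow_mem_graded _ hf)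
      (by
        have h1 := h.choose_spec
        simp only [smul_eq_mul]
        push_cast
        rcases le_total 0 h.choose with h2 | h2
        · rw [Int.toNat_of_nonneg h2, Int.toNat_of_nonpos (by omega : -h.choose ≤ 0)]
          push_cast; linear_combination h1
        · rw [Int.toNat_of_nonpos h2, Int.toNat_of_nonneg (by omega : 0 ≤ -h.choose)]
          push_cast; linear_combination h1)
      (fun x hx => pow_notMem 𝒜 hx _))
      fun a b => GrTw11.sec_ext fun x hx => by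
        show Localization.mk (((a : A) + b) * _) _ = Localization.mk _ _ + Localization.mk _ _
        rw [Localization.add_mk_self, add_mul]
  else 0

variable [Algebra R (O 𝒜 f)]

theorem piDeg_val (hd : 0 < d) {n : ℤ} {e i j : ℕ} {a : A} (ha : a ∈ 𝒜 e) (hij : (e : ℤ) + i * d = j * d + n)
    (x : ProjectiveSpectrum 𝒜) (hx : x ∈ Proj.basicOpen 𝒜 f) :
    valHom 𝒜 x hx (piDeg 𝒜 hf n e ⟨a, ha⟩) = Localization.mk (a * f ^ i) ⟨f ^ j, pow_notMem 𝒜 hx j⟩ := by
  have h : (d : ℤ) ∣ (e : ℤ) - n := ⟨j - i, by linear_combination hij⟩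
  rw [piDeg, dif_pos h]
  show Localization.mk (a * f ^ (-h.choose).toNat) _ = _
  rw [mk_eq_iff]
  refine ⟨1, one_notMem_prime 𝒜 x, ?_⟩
  have h1 := h.choose_spec
  have h2 : h.choose = (j : ℤ) - i := by
    have h3 : (d : ℤ) * h.choose = d * ((j : ℤ) - i) := by linear_combination hij - h1
    exact mul_left_cancel₀ (by exact_mod_cast hd.ne') h3
  have h4 : j + (-h.choose).toNat = h.choose.toNat + i := by omega
  rw [one_mul, one_mul, mul_comm a, ← mul_assoc, ← pow_add, h4, mul_comm a, ← mul_assoc, ← pow_add]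

/-- The projection `A → Γ(O(n), D₊(f))`. -/
noncomputable def pi (n : ℤ) : A →+ M 𝒜 f n :=
  (DirectSum.toAddMonoid (piDeg 𝒜 hf n)).comp (DirectSum.decomposeAddEquiv 𝒜).toAddMonoidHom

theorem pi_apply {n : ℤ} {e : ℕ} {a : A} (ha : a ∈ 𝒜 e) : pi 𝒜 hf n a = piDeg 𝒜 hf n e ⟨a, ha⟩ := by
  show DirectSum.toAddMonoid (piDeg 𝒜 hf n) (DirectSum.decompose 𝒜 a) = _
  rw [DirectSum.decompose_of_mem 𝒜 ha, DirectSum.toAddMonoid_of]

theorem pi_val (hd : 0 < d) {n : ℤ} {e i j : ℕ} {a : A} (ha : a ∈ 𝒜 e) (hij : (e : ℤ) + i * d = j * d + n)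
    (x : ProjectiveSpectrum 𝒜) (hx : x ∈ Proj.basicOpen 𝒜 f) :
    valHom 𝒜 x hx (pi 𝒜 hf n a) = Localization.mk (a * f ^ i) ⟨f ^ j, pow_notMem 𝒜 hx j⟩ := by
  rw [pi_apply 𝒜 hf ha, piDeg_val 𝒜 hf hd ha hij]

theorem pi_eq_zero {n : ℤ} {e : ℕ} {a : A} (ha : a ∈ 𝒜 e) (h : ¬(d : ℤ) ∣ (e : ℤ) - n) : pi 𝒜 hf n a = 0 := by
  rw [pi_apply 𝒜 hf ha, piDeg, dif_neg h]
  rfl

omit hf in
theorem exists_ij {n : ℤ} {e : ℕ} (h : (d : ℤ) ∣ (e : ℤ) - n) : ∃ i j : ℕ, (e : ℤ) + i * d = j * d + n := by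
  obtain ⟨q, hq⟩ := h
  refine ⟨(-q).toNat, q.toNat, ?_⟩
  have h4 : (q.toNat : ℤ) - (-q).toNat = q := by omega
  linear_combination hq - (d : ℤ) * h4

theorem pi_mul_f (hd : 0 < d) (n : ℤ) (c : A) : pi 𝒜 hf n (f * c) = pi 𝒜 hf n c := by
  induction c using DirectSum.Decomposition.inductionOn 𝒜 with
  | zero => rw [mul_zero]
  | homogeneous c =>
    rename_i e
    have hfc : f * (c : A) ∈ 𝒜 (d + e) := SetLike.mul_mem_graded hf c.2
    by_cases h : (d : ℤ) ∣ (e : ℤ) - n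
    · obtain ⟨i, j, hij⟩ := exists_ij h
      refine GrTw11.sec_ext fun x hx => ?_
      show valHom 𝒜 x hx _ = valHom 𝒜 x hx _
      rw [pi_val 𝒜 hf hd hfc (i := i) (j := j + 1) (by push_cast; linear_combination hij),
        pi_val 𝒜 hf hd c.2 (i := i + 1) (j := j + 1) (by push_cast; linear_combination hij)]
      congr 1
      ring
    · rw [pi_eq_zero 𝒜 hf c.2 h, pi_eq_zero 𝒜 hf hfc]
      intro h'
      refine h ?_
      have := dvd_sub h' (dvd_refl (d : ℤ))
      push_cast at this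
      rwa [show (d : ℤ) + e - n - d = e - n by ring] at this
  | add a b ha hb => rw [mul_add, map_add, map_add, ha, hb]

theorem pi_congr (hd : 0 < d) (n : ℤ) {a b : A} (h : Ideal.Quotient.mk (Ideal.span {f - 1}) a = Ideal.Quotient.mk _ b) :
    pi 𝒜 hf n a = pi 𝒜 hf n b := by
  obtain ⟨c, hc⟩ := Ideal.mem_span_singleton'.1 (Ideal.Quotient.eq.1 h)
  rw [← sub_eq_zero, ← map_sub, ← hc, mul_sub, mul_one, map_sub, mul_comm, pi_mul_f 𝒜 hf hd, sub_self]

theorem pi_smul (hd : 0 < d) {n : ℤ} {r : O 𝒜 f} {i k : ℕ} {b : A} (hr : Rep 𝒜 f d (r • oneSec 𝒜) i k b) (a : A) :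
    pi 𝒜 hf n (b * a) = r • pi 𝒜 hf n a := by
  induction a using DirectSum.Decomposition.inductionOn 𝒜 with
  | zero => rw [mul_zero, map_zero, smul_zero]
  | homogeneous a =>
    rename_i e
    have hba : b * (a : A) ∈ 𝒜 (i + e) := SetLike.mul_mem_graded hr.1 a.2
    have h1 := hr.2.1
    by_cases h : (d : ℤ) ∣ (e : ℤ) - n
    · obtain ⟨p, q, hpq⟩ := exists_ij h
      refine GrTw11.sec_ext fun x hx => ?_
      show valHom 𝒜 x hx (pi 𝒜 hf n (b * (a : A))) = valHom 𝒜 x hx (r • pi 𝒜 hf n (a : A))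
      rw [valHom_smul, ← valHom_smul_one, hr.2.2 x hx, pi_val 𝒜 hf hd a.2 hpq,
        pi_val 𝒜 hf hd hba (i := p) (j := k + q) (by push_cast; linear_combination h1 + hpq), Localization.mk_mul]
      congr 1
      · ring
      · exact Subtype.ext (pow_add f k q)
    · rw [pi_eq_zero 𝒜 hf a.2 h, pi_eq_zero 𝒜 hf hba, smul_zero]
      intro h'
      refine h ?_
      have h5 := dvd_sub h' (⟨k, by linear_combination h1⟩ : (d : ℤ) ∣ (i : ℤ))
      push_cast at h5
      rwa [show (i : ℤ) + e - n - i = e - n by ring] at h5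
  | add a c ha hc => rw [mul_add, map_add, map_add, ha, hc, smul_add]

theorem pi_iota (hd : 0 < d) {n : ℤ} (t : M 𝒜 f n) {a : A} (h : Ideal.Quotient.mk _ a = iota 𝒜 hd hf n t) :
    pi 𝒜 hf n a = t := by
  obtain ⟨i, k, b, hb⟩ := exists_rep 𝒜 hd hf t
  rw [pi_congr 𝒜 hf hd n (h.trans (iotaFun_eq 𝒜 hd hf hb))]
  refine GrTw11.sec_ext fun x hx => ?_
  show valHom 𝒜 x hx _ = valHom 𝒜 x hx _
  rw [pi_val 𝒜 hf hd hb.1 (i := 0) (j := k) (by have := hb.2.1; push_cast; linear_combination this), hb.2.2 x hx,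
    pow_zero, mul_one]

omit hf [Algebra R (O 𝒜 f)] in
theorem bijective_smul_oneSec : Function.Bijective fun r : O 𝒜 f => r • (oneSec 𝒜 : M 𝒜 f 0) := by
  have h7 := bijective_smul_of_inverse (n := 0) (U := Proj.basicOpen 𝒜 f) (oneSec 𝒜)
    (oneSec 𝒜) (fun x hx => by
    show Localization.mk (1 : A) _ * Localization.mk (1 : A) _ = (1 : Loc 𝒜 x)
    rw [Localization.mk_mul, ← Localization.mk_one]
    congr 1
    · exact one_mul _
    · exact Subtype.ext (one_mul _)) (Proj.basicOpen 𝒜 f) le_rfl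
  simp only [Groth.Agent.M1.mres_id] at h7
  exact h7

/-- Functions on `D₊(f)` are finitely presented and the sections of the twists are finitely presented over them. -/
theorem finitePresentation_basicOpen (hd : 0 < d) [Algebra.FinitePresentation R A] (h0 : ∀ r : R, algebraMap R A r ∈ 𝒜 0)
    (hval : ∀ (r : R) x hx, GrTw11.valO (algebraMap R (O 𝒜 f) r) x hx = algebraMap A (Loc 𝒜 x) (algebraMap R A r)) :
    Algebra.FinitePresentation R (O 𝒜 f) ∧ ∀ n, Module.FinitePresentation (O 𝒜 f) (M 𝒜 f n) := by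
  classical
  let C := A ⧸ Ideal.span {f - 1}
  let q := Ideal.Quotient.mk (Ideal.span {f - 1})
  let ι := iotaRing 𝒜 hd hf
  letI : Algebra (O 𝒜 f) C := ι.toAlgebra
  have hR : ∀ r : R, ι (algebraMap R _ r) = q (algebraMap R A r) := fun r =>
    iotaFun_eq 𝒜 hd hf (i := 0) (k := 0) ⟨h0 r, by simp, fun x hx => by
      rw [valHom_smul_one, hval, ← Localization.mk_one_eq_algebraMap]
      congr 1
      exact Subtype.ext (pow_zero f).symm⟩
  obtain ⟨s, hs⟩ := (Algebra.FiniteType.out : (⊤ : Subalgebra R A).FG)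
  let T : Finset A := s.biUnion fun a => (DirectSum.decompose 𝒜 a).support.image fun e => (DirectSum.decompose 𝒜 a e : A)
  have hT : ∀ a ∈ T, ∃ e, a ∈ 𝒜 e := fun a ha => by
    obtain ⟨b, -, hb⟩ := Finset.mem_biUnion.1 ha
    obtain ⟨e, -, rfl⟩ := Finset.mem_image.1 hb
    exact ⟨e, SetLike.coe_mem _⟩
  choose E hE using hT
  let u : T → O 𝒜 f := fun a => ((bijective_smul_oneSec 𝒜).2 (pi 𝒜 hf 0 ((a : A) ^ d))).choose
  let Q := MvPolynomial T R
  let θ : Q →ₐ[R] O 𝒜 f := MvPolynomial.aeval u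
  letI : Algebra Q (O 𝒜 f) := θ.toAlgebra
  haveI : IsScalarTower R Q (O 𝒜 f) := IsScalarTower.of_algebraMap_eq' θ.comp_algebraMap.symm
  letI : Algebra Q C := (ι.comp θ.toRingHom).toAlgebra
  haveI : IsScalarTower Q (O 𝒜 f) C := IsScalarTower.of_algebraMap_eq' rfl
  haveI : IsScalarTower R Q C := IsScalarTower.of_algebraMap_eq fun r => by
    show q (algebraMap R A r) = ι (θ (algebraMap R Q r))
    rw [AlgHom.commutes, hR]
  haveI : Algebra.FinitePresentation R C := Algebra.FinitePresentation.quotient (Submodule.fg_span_singleton _)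
  haveI : Algebra.FiniteType Q C := Algebra.FiniteType.of_restrictScalars_finiteType R Q C
  haveI : Algebra.IsIntegral Q C := by
    have hint : ∀ a : T, IsIntegral Q (q a) := fun a => by
      refine IsIntegral.of_pow hd ?_
      have hu : u a • oneSec 𝒜 = pi 𝒜 hf 0 ((a : A) ^ d) :=
        ((bijective_smul_oneSec 𝒜).2 (pi 𝒜 hf 0 ((a : A) ^ d))).choose_spec
      have h6 : q ((a : A)) ^ d = algebraMap Q C (MvPolynomial.X a) := by
        show _ = ι (θ (MvPolynomial.X a))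
        rw [MvPolynomial.aeval_X, ← map_pow]
        refine (iotaFun_eq 𝒜 hd hf (i := d • E a a.2) (k := E a a.2) (a := (a : A) ^ d)
          ⟨SetLike.pow_mem_graded _ (hE a a.2), by simp [mul_comm], fun x hx => ?_⟩).symm
        rw [hu, pi_val 𝒜 hf hd (SetLike.pow_mem_graded d (hE a a.2)) (i := 0) (j := E a a.2) (by simp [mul_comm]),
          pow_zero, mul_one]
      rw [h6]
      exact isIntegral_algebraMap
    constructor
    intro c
    obtain ⟨a, rfl⟩ := Ideal.Quotient.mk_surjective c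
    have ha : a ∈ Algebra.adjoin R (s : Set A) := hs ▸ Algebra.mem_top
    let W : Subalgebra R A := ((integralClosure Q C).restrictScalars R).comap (Ideal.Quotient.mkₐ R _)
    refine (Algebra.adjoin_le (S := W) (fun b hb => ?_) ha : _)
    show q b ∈ integralClosure Q C
    rw [← DirectSum.sum_support_decompose 𝒜 b, map_sum]
    exact sum_mem fun e he => hint ⟨_, Finset.mem_biUnion.2 ⟨b, hb, Finset.mem_image.2 ⟨e, he, rfl⟩⟩⟩
  haveI : Module.Finite Q C := Algebra.IsIntegral.finite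
  haveI : Algebra.FinitePresentation Q C := Algebra.FinitePresentation.of_restrict_scalars_finitePresentation R Q C
  haveI : Module.FinitePresentation Q C := Module.FinitePresentation.of_finite_of_finitePresentation Q C
  have key : ∀ n, letI : Module Q (M 𝒜 f n) := Module.compHom _ θ.toRingHom
      Module.FinitePresentation Q (M 𝒜 f n) := by
    intro n
    letI : Module Q (M 𝒜 f n) := Module.compHom _ θ.toRingHom
    let P : C →ₗ[Q] M 𝒜 f n :=
      { toFun := fun c => pi 𝒜 hf n (Function.surjInv Ideal.Quotient.mk_surjective c)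
        map_add' := fun c c' => by
          rw [← map_add]
          refine pi_congr 𝒜 hf hd n ?_
          simp [Function.surjInv_eq]
        map_smul' := fun r c => by
          obtain ⟨i, k, b, hb⟩ := exists_rep 𝒜 hd hf (θ r • oneSec 𝒜)
          show _ = θ r • pi 𝒜 hf n (Function.surjInv Ideal.Quotient.mk_surjective c)
          rw [← pi_smul 𝒜 hf hd hb]
          refine pi_congr 𝒜 hf hd n ?_
          show q _ = q (b * _)
          rw [map_mul, Function.surjInv_eq (f := q) Ideal.Quotient.mk_surjective,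
            Function.surjInv_eq (f := q) Ideal.Quotient.mk_surjective]
          show ι (θ r) * c = _
          exact congrArg (· * c) (iotaFun_eq 𝒜 hd hf hb) }
    let J : M 𝒜 f n →ₗ[Q] C :=
      { toFun := iota 𝒜 hd hf n
        map_add' := map_add _
        map_smul' := fun r t => iota_smul 𝒜 hd hf (θ r) t }
    have hPJ : ∀ t, P (J t) = t := fun t => pi_iota 𝒜 hf hd t (Function.surjInv_eq _ _)
    refine Module.finitePresentation_of_surjective P (fun t => ⟨J t, hPJ t⟩) ?_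
    have hk : LinearMap.ker P = LinearMap.range (LinearMap.id - J.comp P) := by
      apply le_antisymm
      · intro c hc; exact ⟨c, by simp [LinearMap.mem_ker.1 hc]⟩
      · rintro _ ⟨c, rfl⟩; simp [hPJ]
    rw [hk, LinearMap.range_eq_map]
    exact Module.Finite.fg_top.map _
  haveI hO : Module.FinitePresentation Q (O 𝒜 f) := by
    letI : Module Q (M 𝒜 f 0) := Module.compHom _ θ.toRingHom
    haveI := key 0
    refine Module.FinitePresentation.of_equiv (LinearEquiv.ofBijective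
      ({ toFun := fun r => r • oneSec 𝒜, map_add' := fun a b => add_smul a b _,
         map_smul' := fun r a => mul_smul (θ r) a _ } : O 𝒜 f →ₗ[Q] M 𝒜 f 0) ?_).symm
    exact bijective_smul_oneSec 𝒜
  haveI : Algebra.FinitePresentation Q (O 𝒜 f) := Algebra.FinitePresentation.of_finitePresentation Q _
  refine ⟨Algebra.FinitePresentation.trans R Q (O 𝒜 f), fun n => ?_⟩
  letI : Module Q (M 𝒜 f n) := Module.compHom _ θ.toRingHom
  haveI : IsScalarTower Q (O 𝒜 f) (M 𝒜 f n) := IsScalarTower.of_algebraMap_smul fun _ _ => rfl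
  haveI := key n
  haveI : Module.Finite (O 𝒜 f) (M 𝒜 f n) := Module.Finite.of_restrictScalars_finite Q _ _
  obtain ⟨l, g, hg⟩ := Module.Finite.exists_fin' (O 𝒜 f) (M 𝒜 f n)
  refine Module.finitePresentation_of_surjective g hg (Submodule.FG.of_restrictScalars Q ?_)
  rw [← LinearMap.ker_restrictScalars]
  exact Module.FinitePresentation.fg_ker (g.restrictScalars Q) hg

end Groth.Agent.Proj26
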