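import Groth.Agent.Lib.Proj26.FP

/-! # Relative `Proj` of a finitely presented graded algebra -/

set_option autoImplicit false
set_option linter.style.haveILetI false
set_option backward.isDefEq.respectTransparency.types false

open CategoryTheory AlgebraicGeometry TopologicalSpace Opposite HomogeneousLocalization

universe u

namespace Groth.Agent.Proj26

open _root_.GrTwist Groth.Agent.GrTw11

variable {S P : Scheme.{u}} {𝒮 : RelProj.QCGrAlg S} {p : P ⟶ S}
  {chart : ∀ (U : S.Opens) (hU : IsAffineOpen U), ((p ⁻¹ᵁ U : P.Opens) : Scheme.{u}) ≅ Proj (𝒮.deg U hU)}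
  (hfp : ∀ (U : S.Opens), IsAffineOpen U → RingHom.FinitePresentation (𝒮.str.app (op U)).hom)

include hfp in
theorem fp_chart (U : S.Opens) (hU : IsAffineOpen U) {f : 𝒮.presheaf.obj (op U)} {d : ℕ} (hd : 0 < d)
    (hf : f ∈ 𝒮.deg U hU d) :
    (phi U hU f ≫ Proj.awayToSection (𝒮.deg U hU) f).hom.FinitePresentation ∧
      ∀ n, Module.FinitePresentation (O (𝒮.deg U hU) f) (M (𝒮.deg U hU) f n) := by
  letI := (𝒮.str.app (op U)).hom.toAlgebra
  haveI : Algebra.FinitePresentation Γ(S, U) (𝒮.presheaf.obj (op U)) := hfp U hU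
  letI : Algebra Γ(S, U) (O (𝒮.deg U hU) f) := (phi U hU f ≫ Proj.awayToSection (𝒮.deg U hU) f).hom.toAlgebra
  refine finitePresentation_basicOpen (R := Γ(S, U)) (𝒮.deg U hU) hf hd (fun r => 𝒮.str_mem U hU r) fun r x hx => ?_
  rw [← Localization.mk_one_eq_algebraMap]
  rfl

include hfp in
theorem locallyOfFinitePresentation_relProj (hP : RelProj.IsRelProj 𝒮 p chart) : LocallyOfFinitePresentation p := by
  rw [HasRingHomProperty.iff_exists_appLE (P := @LocallyOfFinitePresentation)
    (RingHom.finitePresentation_stableUnderComposition.stableUnderCompositionWithLocalizationAway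
      RingHom.finitePresentation_holdsForLocalizationAway).left]
  intro x
  obtain ⟨U, hU, d, f, hd, hf, hx⟩ := exists_mem_image (chart := chart) x
  let D := Proj.basicOpen (𝒮.deg U hU) f
  let j := RelProj.emb p chart U hU
  have e : j ''ᵁ D ≤ p ⁻¹ᵁ U := RelProj11.image_emb_le D
  refine ⟨⟨U, hU⟩, ⟨j ''ᵁ D, (Proj.isAffineOpen_basicOpen _ f hf hd).image_of_isOpenImmersion j⟩, hx, e, ?_⟩
  have h2 : phi U hU f ≫ Proj.awayToSection (𝒮.deg U hU) f = p.appLE U (j ''ᵁ D) e ≫ (j.appIso D).hom := by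
    rw [Scheme.Hom.appIso_hom', Scheme.Hom.appLE_comp_appLE]
    exact (appLE_emb_comp hP U hU hd hf _).symm
  have h4 : p.appLE U (j ''ᵁ D) e = (phi U hU f ≫ Proj.awayToSection (𝒮.deg U hU) f) ≫ (j.appIso D).inv := by
    rw [h2, Category.assoc, Iso.hom_inv_id, Category.comp_id]
  rw [h4, CommRingCat.hom_comp]
  exact RingHom.finitePresentation_respectsIso.left _ (j.appIso D).commRingCatIsoToRingEquiv.symm (fp_chart hfp U hU hd hf).1

include hfp in
theorem quasiCompact_relProj (hP : RelProj.IsRelProj 𝒮 p chart) : QuasiCompact p :=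
  (RelProj11.finiteType hP fun U hU => RingHom.FiniteType.of_finitePresentation (hfp U hU)).2

include hfp in
theorem isFP_twist (_hP : RelProj.IsRelProj 𝒮 p chart) (n : ℤ) {L : P.Modules}
    {lam : ∀ (U : S.Opens) (hU : IsAffineOpen U),
      L ⟶ (Scheme.Modules.pushforward (RelProj.emb p chart U hU)).obj (GrTwist.twist (𝒮.deg U hU) n)}
    (hL : RelProj.IsRelTwist 𝒮 p chart n L lam) : CohB1.IsFP L := by
  choose U hU d f hd hf hx using fun x : P => exists_mem_image (chart := chart) x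
  let j := fun x => RelProj.emb p chart (U x) (hU x)
  let D := fun x => Proj.basicOpen (𝒮.deg (U x) (hU x)) (f x)
  have hO : ∀ x, IsAffineOpen (j x ''ᵁ D x) := fun x =>
    (Proj.isAffineOpen_basicOpen _ (f x) (hf x) (hd x)).image_of_isOpenImmersion (j x)
  refine M1.isFP_of_openImmersion_cover (fun x => (hO x).fromSpec)
    (fun x => ⟨x, by rw [IsAffineOpen.range_fromSpec]; exact hx x⟩) fun x => ?_
  refine (M1.isFP_iff_finitePresentation_spec _ (M1.isQCoh_fromSpec (RelProj11.isQCoh_relTwist hL) (hO x))).mpr ?_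
  suffices h : Module.FinitePresentation Γ(P, j x ''ᵁ D x) Γ(L, j x ''ᵁ D x) from
    M1.finitePresentation_of_linearEquiv (M1.affineSecEquiv L (hO x)).symm
  let A' := Γ(Proj (𝒮.deg (U x) (hU x)), D x)
  let B := Γ(P, j x ''ᵁ D x)
  let Mx := Γ(_root_.GrTwist.twist (𝒮.deg (U x) (hU x)) n, D x)
  have hDe : D x ≤ j x ⁻¹ᵁ (j x ''ᵁ D x) := ((j x).preimage_image_eq (D x)).ge
  letI : Algebra B A' := ((j x).appLE (j x ''ᵁ D x) (D x) hDe).hom.toAlgebra
  haveI : Module.FinitePresentation B A' := by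
    refine Module.FinitePresentation.of_equiv (LinearEquiv.ofBijective (Algebra.linearMap B A') ?_)
    have : IsIso ((j x).appLE (j x ''ᵁ D x) (D x) hDe) := by
      rw [← Scheme.Hom.appIso_hom']; infer_instance
    exact (ConcreteCategory.isIso_iff_bijective _).1 this
  letI : Module B Mx := Module.compHom _ (algebraMap B A')
  haveI : IsScalarTower B A' Mx := IsScalarTower.of_algebraMap_smul fun _ _ => rfl
  haveI : Module.FinitePresentation A' Mx := (fp_chart hfp (U x) (hU x) (hd x) (hf x)).2 n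
  haveI : Module.FinitePresentation B Mx := Module.FinitePresentation.trans B Mx A'
  let T := _root_.GrTwist.twist (𝒮.deg (U x) (hU x)) n
  have hle : j x ⁻¹ᵁ (j x ''ᵁ D x) ≤ D x := ((j x).preimage_image_eq (D x)).le
  let r₁ : Γ(T, j x ⁻¹ᵁ (j x ''ᵁ D x)) → Γ(T, D x) := fun a => M1.mres T hDe a
  have h1 : Function.Bijective r₁ := Function.bijective_iff_has_inverse.2 ⟨fun a => M1.mres T hle a,
    fun a => (M1.mres_mres T hDe hle a).trans (M1.mres_id T _ a),
    fun a => (M1.mres_mres T hle hDe a).trans (M1.mres_id T _ a)⟩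
  refine M1.finitePresentation_of_linearEquiv (LinearEquiv.ofBijective
    ({ toFun := fun s => r₁ ((lam (U x) (hU x)).app (j x ''ᵁ D x) s)
       map_add' := fun a b => by simp only [map_add]; exact map_add (M1.mres T hDe).hom _ _
       map_smul' := fun r s => ?_ } : Γ(L, j x ''ᵁ D x) →ₗ[B] Mx) ?_).symm
  · let t : Γ(T, j x ⁻¹ᵁ (j x ''ᵁ D x)) := (lam (U x) (hU x)).app (j x ''ᵁ D x) s
    show r₁ ((lam (U x) (hU x)).app (j x ''ᵁ D x) (r • s)) = _
    rw [Scheme.Modules.Hom.app_smul]
    show M1.mres T hDe (((j x).app (j x ''ᵁ D x) r : Γ(Proj (𝒮.deg (U x) (hU x)), j x ⁻¹ᵁ (j x ''ᵁ D x))) • t) = _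
    rw [M1.mres_smul]
    rfl
  · exact h1.comp (hL.bijective (U x) (hU x) _ (RelProj11.image_emb_le (D x)))

end Groth.Agent.Proj26
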