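import Groth.Agent.Lib.GrTw11.Global
import Groth.Agent.Lib.RelProj11.Twist
import Groth.Agent.Lib.FlatH4.ModFlatAt
import Groth.Agent.S2394
import Mathlib.RingTheory.Flat.EquationalCriterion

/-! # Flatness of `Proj` and of its twists from flatness of the large graded pieces -/

set_option autoImplicit false
set_option backward.isDefEq.respectTransparency.types false

open CategoryTheory CategoryTheory.Limits AlgebraicGeometry TopologicalSpace Opposite HomogeneousLocalization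

universe u

namespace Groth.Agent.Proj26

open _root_.GrTwist Groth.Agent.GrTw11

variable {R A σ : Type u} [CommRing R] [CommRing A] [Algebra R A] [SetLike σ A] [AddSubgroupClass σ A]
  (𝒜 : ℕ → σ) [GradedRing 𝒜]

theorem mem_of_mem_span (h0 : ∀ r : R, algebraMap R A r ∈ 𝒜 0) {d : ℕ} {a : A}
    (ha : a ∈ Submodule.span R (𝒜 d : Set A)) : a ∈ 𝒜 d := by
  induction ha using Submodule.span_induction with
  | mem x hx => exact hx
  | zero => exact zero_mem _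
  | add x y _ _ hx hy => exact add_mem hx hy
  | smul r x _ hx =>
    rw [Algebra.smul_def]
    simpa using SetLike.mul_mem_graded (h0 r) hx

/-- The value at a point, additively. -/
noncomputable def valHom {n : ℤ} {U : (Proj 𝒜).Opens} (x : ProjectiveSpectrum 𝒜) (hx : x ∈ U) :
    Γ(_root_.GrTwist.twist 𝒜 n, U) →+ Loc 𝒜 x where
  toFun t := GrTw11.val (n := n) t x hx
  map_zero' := rfl
  map_add' _ _ := rfl

/-- The sections of `O(n)` over `D₊(f)` are flat if the graded pieces of large degree are. -/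
theorem flat_sections_twist {f : A} {d : ℕ} (hd : 0 < d) (hf : f ∈ 𝒜 d) (n : ℤ)
    (h0 : ∀ r : R, algebraMap R A r ∈ 𝒜 0) {d₀ : ℕ}
    (hflat : ∀ e, d₀ ≤ e → Module.Flat R (Submodule.span R (𝒜 e : Set A)))
    [Module R Γ(_root_.GrTwist.twist 𝒜 n, Proj.basicOpen 𝒜 f)]
    (hsmul : ∀ (r : R) (t : Γ(_root_.GrTwist.twist 𝒜 n, Proj.basicOpen 𝒜 f)) x hx,
      valHom 𝒜 x hx (r • t) = algebraMap A (Loc 𝒜 x) (algebraMap R A r) * valHom 𝒜 x hx t) :
    Module.Flat R Γ(_root_.GrTwist.twist 𝒜 n, Proj.basicOpen 𝒜 f) := by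
  classical
  refine Module.Flat.of_forall_isTrivialRelation fun {l r t} hrel => ?_
  choose i k a ha hi hval using fun j => exists_eq_frac_of_pos 𝒜 hd hf (n := n) (t j)
  let K := Finset.univ.sup k + (d₀ + n.natAbs)
  have hkK : ∀ j, k j ≤ K := fun j => (Finset.le_sup (Finset.mem_univ j)).trans (Nat.le_add_right _ _)
  have hKn : (d₀ : ℤ) ≤ K * d + n := by
    have h1 : d₀ + n.natAbs ≤ K * d := (Nat.le_add_left _ _).trans (Nat.le_mul_of_pos_right _ hd)
    have h2 : -(n.natAbs : ℤ) ≤ n := by omega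
    have h3 : ((d₀ + n.natAbs : ℕ) : ℤ) ≤ ((K * d : ℕ) : ℤ) := by exact_mod_cast h1
    push_cast at h3 ⊢; omega
  obtain ⟨e, he⟩ := Int.eq_ofNat_of_zero_le (le_trans (Int.natCast_nonneg d₀) hKn)
  have ha' : ∀ j, f ^ (K - k j) * a j ∈ 𝒜 e := fun j => by
    have h1 := SetLike.mul_mem_graded (SetLike.pow_mem_graded (K - k j) hf) (ha j)
    have h2 : (K - k j) • d + i j = e := by
      have h3 : (((K - k j) • d + i j : ℕ) : ℤ) = e := by
        rw [smul_eq_mul]; push_cast [hkK j]; linear_combination hi j + he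
      exact_mod_cast h3
    rwa [h2] at h1
  have hval' : ∀ j x (hx : x ∈ Proj.basicOpen 𝒜 f), valHom 𝒜 x hx (t j) =
      Localization.mk (f ^ (K - k j) * a j) ⟨f ^ K, pow_notMem 𝒜 hx K⟩ := fun j x hx => by
    refine (hval j x hx).trans ?_
    rw [mk_eq_iff]
    refine ⟨1, fun h => x.isPrime.ne_top ((Ideal.eq_top_iff_one _).mpr h), ?_⟩
    rw [one_mul, one_mul, ← mul_assoc, ← pow_add, Nat.add_sub_cancel' (hkK j)]
  let b := ∑ j, algebraMap R A (r j) * (f ^ (K - k j) * a j)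
  have hb : b ∈ 𝒜 e := sum_mem fun j _ => by simpa using SetLike.mul_mem_graded (h0 (r j)) (ha' j)
  obtain ⟨N, hN⟩ := exists_pow_mul_eq_zero_of_mk 𝒜 hd hf hb fun x hx => by
    refine ⟨f ^ K, pow_notMem 𝒜 hx K, ?_⟩
    have h1 := congrArg (valHom 𝒜 (n := n) x hx) hrel
    rw [map_zero, map_sum] at h1
    rw [← h1, Localization.mk_sum]
    refine Finset.sum_congr rfl fun j _ => ?_
    rw [hsmul, hval', ← Localization.mk_one_eq_algebraMap, Localization.mk_mul]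
    congr 1
    exact Subtype.ext (one_mul _).symm
  have he' : d₀ ≤ N • d + e := le_trans (by omega) (Nat.le_add_left _ _)
  let N' := Submodule.span R (𝒜 (N • d + e) : Set A)
  let y : Fin l → N' := fun j => ⟨f ^ N * (f ^ (K - k j) * a j),
    Submodule.subset_span (SetLike.mul_mem_graded (SetLike.pow_mem_graded N hf) (ha' j))⟩
  haveI := hflat _ he'
  obtain ⟨m, c, z, hy, hc⟩ := Module.Flat.isTrivialRelation_of_sum_smul_eq_zero (M := N') (f := r) (x := y) <|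
    Subtype.ext (by
      rw [Submodule.coe_sum, Submodule.coe_zero, ← hN, Finset.mul_sum]
      refine Finset.sum_congr rfl fun j _ => ?_
      rw [Submodule.coe_smul, Algebra.smul_def]
      exact mul_left_comm _ _ _)
  have hz : ∀ q, (z q : A) ∈ 𝒜 (N • d + e) := fun q => mem_of_mem_span 𝒜 h0 (z q).2
  have hfk : f ^ (K + N) ∈ 𝒜 ((K + N) • d) := SetLike.pow_mem_graded _ hf
  let w : Fin m → Γ(_root_.GrTwist.twist 𝒜 n, Proj.basicOpen 𝒜 f) := fun q =>
    frac 𝒜 (n := n) (Proj.basicOpen 𝒜 f) (hz q) hfk (by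
      simp only [smul_eq_mul]; push_cast; linear_combination -he)
      (fun x hx => pow_notMem 𝒜 hx _)
  refine ⟨m, c, w, fun j => sec_ext fun x hx => ?_, hc⟩
  show valHom 𝒜 x hx (t j) = valHom 𝒜 x hx (∑ q, c j q • w q)
  rw [map_sum, hval']
  have hsum : ∀ q, valHom 𝒜 x hx (c j q • w q) = Localization.mk ((c j q • z q : N') : A)
      (⟨f ^ (K + N), pow_notMem 𝒜 hx _⟩ : x.asHomogeneousIdeal.toIdeal.primeCompl) := fun q => by
    rw [hsmul, ← Localization.mk_one_eq_algebraMap, show valHom 𝒜 x hx (w q) = Localization.mk (z q : A)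
      ⟨f ^ (K + N), pow_notMem 𝒜 hx _⟩ from rfl, Localization.mk_mul, Submodule.coe_smul, Algebra.smul_def]
    congr 1
    exact Subtype.ext (one_mul _)
  rw [Finset.sum_congr rfl fun q _ => hsum q, ← Localization.mk_sum, ← Submodule.coe_sum, ← hy j, mk_eq_iff]
  exact ⟨1, fun h => x.isPrime.ne_top ((Ideal.eq_top_iff_one _).mpr h), by
    show 1 * (f ^ (K + N) * (f ^ (K - k j) * a j)) = 1 * (f ^ K * (f ^ N * (f ^ (K - k j) * a j)))
    rw [pow_add]; ring⟩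

theorem appLE_awayι {f : A} {d : ℕ} (hd : 0 < d) (hf : f ∈ 𝒜 d) (e) :
    Proj.awayToSection 𝒜 f ≫ (Proj.awayι 𝒜 f hf hd).appLE (Proj.basicOpen 𝒜 f) ⊤ e =
      (Scheme.ΓSpecIso _).inv := by
  have h1 : Proj.awayToSection 𝒜 f ≫ (Proj.basicOpen 𝒜 f).topIso.inv =
      (Scheme.ΓSpecIso _).inv ≫ (Proj.basicOpenIsoSpec 𝒜 f hf hd).hom.appTop := by
    rw [Proj.basicOpenIsoSpec_hom, Scheme.Hom.appTop, Proj.basicOpenToSpec_app_top, Iso.inv_hom_id_assoc]
  have h2 : (Proj.awayι 𝒜 f hf hd).appLE (Proj.basicOpen 𝒜 f) ⊤ e =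
      (Proj.basicOpen 𝒜 f).topIso.inv ≫ (Proj.basicOpenIsoSpec 𝒜 f hf hd).inv.appTop := by
    have e1 : (⊤ : (Proj.basicOpen 𝒜 f).toScheme.Opens) ≤ (Proj.basicOpen 𝒜 f).ι ⁻¹ᵁ Proj.basicOpen 𝒜 f :=
      (Proj.basicOpen 𝒜 f).ι_preimage_self.ge
    rw [Scheme.Hom.appTop, Scheme.Hom.app_eq_appLE]
    refine ((Scheme.Hom.appLE_comp_appLE (Proj.basicOpenIsoSpec 𝒜 f hf hd).inv (Proj.basicOpen 𝒜 f).ι
      (Proj.basicOpen 𝒜 f) ⊤ ⊤ e1 le_rfl).symm).trans ?_
    rw [Scheme.Opens.ι_appLE]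
    rfl
  rw [h2, reassoc_of% h1, ← Scheme.Hom.comp_appTop, Iso.inv_hom_id]
  simp

/-- The map on sections of a morphism out of `Proj` given on `D₊(f)`. -/
theorem appLE_eq_awayToSection {S : Scheme.{u}} {U : S.Opens} (hU : IsAffineOpen U) {f : A} {d : ℕ} (hd : 0 < d)
    (hf : f ∈ 𝒜 d) (g : Proj 𝒜 ⟶ S) (φ : Γ(S, U) ⟶ CommRingCat.of (Away 𝒜 f))
    (hg : Proj.awayι 𝒜 f hf hd ≫ g = Spec.map φ ≫ hU.fromSpec) (e) :
    g.appLE U (Proj.basicOpen 𝒜 f) e = φ ≫ Proj.awayToSection 𝒜 f := by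
  have e' : (⊤ : (Spec (CommRingCat.of (Away 𝒜 f))).Opens) ≤ Proj.awayι 𝒜 f hf hd ⁻¹ᵁ Proj.basicOpen 𝒜 f := by
    rw [← Proj.opensRange_awayι 𝒜 f hf hd]
    exact fun x _ => ⟨x, rfl⟩
  haveI : IsIso (Proj.awayToSection 𝒜 f) := by
    rw [← Proj.basicOpenIsoAway_hom 𝒜 f hf hd]; infer_instance
  have h1 := appLE_awayι 𝒜 hd hf e'
  haveI : IsIso ((Proj.awayι 𝒜 f hf hd).appLE (Proj.basicOpen 𝒜 f) ⊤ e') := by
    haveI : IsIso (Proj.awayToSection 𝒜 f ≫ (Proj.awayι 𝒜 f hf hd).appLE (Proj.basicOpen 𝒜 f) ⊤ e') := by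
      rw [h1]; infer_instance
    exact IsIso.of_isIso_comp_left (Proj.awayToSection 𝒜 f) _
  rw [← cancel_mono ((Proj.awayι 𝒜 f hf hd).appLE (Proj.basicOpen 𝒜 f) ⊤ e'), Category.assoc, h1,
    Scheme.Hom.appLE_comp_appLE]
  simp only [hg]
  rw [Scheme.Hom.comp_appLE, IsAffineOpen.fromSpec_app_self, Category.assoc, Scheme.Hom.map_appLE,
    Scheme.ΓSpecIso_inv_naturality, Scheme.Hom.appTop, Scheme.Hom.app_eq_appLE]
  rfl

end Groth.Agent.Proj26

namespace Groth.Agent.Proj26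

open _root_.GrTwist Groth.Agent.GrTw11

variable {S P : Scheme.{u}} {𝒮 : RelProj.QCGrAlg S} {p : P ⟶ S}
  {chart : ∀ (U : S.Opens) (hU : IsAffineOpen U), ((p ⁻¹ᵁ U : P.Opens) : Scheme.{u}) ≅ Proj (𝒮.deg U hU)}

/-- The structure map into `(A_f)₀`. -/
noncomputable abbrev phi (U : S.Opens) (hU : IsAffineOpen U) (f : 𝒮.presheaf.obj (op U)) :
    Γ(S, U) ⟶ CommRingCat.of (Away (𝒮.deg U hU) f) :=
  𝒮.strZero U hU ≫ CommRingCat.ofHom (fromZeroRingHom (𝒮.deg U hU) _)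

theorem appLE_emb_comp (hP : RelProj.IsRelProj 𝒮 p chart) (U : S.Opens) (hU : IsAffineOpen U)
    {f : 𝒮.presheaf.obj (op U)} {d : ℕ} (hd : 0 < d) (hf : f ∈ 𝒮.deg U hU d) (e) :
    (RelProj.emb p chart U hU ≫ p).appLE U (Proj.basicOpen (𝒮.deg U hU) f) e =
      phi U hU f ≫ Proj.awayToSection (𝒮.deg U hU) f := by
  refine appLE_eq_awayToSection _ hU hd hf _ _ ?_ e
  rw [RelProj.emb, Category.assoc, ← hP.chart_over U hU, Iso.inv_hom_id_assoc, Proj.awayι_toSpecZero_assoc,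
    ← Spec.map_comp_assoc]

theorem exists_mem_image (x : P) : ∃ (U : S.Opens) (hU : IsAffineOpen U) (d : ℕ) (f : 𝒮.presheaf.obj (op U)),
    0 < d ∧ f ∈ 𝒮.deg U hU d ∧ x ∈ RelProj.emb p chart U hU ''ᵁ Proj.basicOpen (𝒮.deg U hU) f := by
  obtain ⟨U, hU, y, rfl⟩ := RelProj11.exists_emb_eq (chart := chart) x
  obtain ⟨⟨f, d, hd, hf⟩, hy⟩ := Opens.mem_iSup.1 ((RelProj11.iSup_basicOpen_pos (𝒮.deg U hU)).ge (Set.mem_univ y))
  exact ⟨U, hU, d, f, hd, hf, y, hy, rfl⟩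

variable (hflat : ∃ d₀ : ℕ, ∀ d : ℕ, d₀ ≤ d → ∀ (U : S.Opens) (hU : IsAffineOpen U),
      letI := (𝒮.str.app (op U)).hom.toAlgebra
      Module.Flat Γ(S, U) ↥(Submodule.span Γ(S, U) (𝒮.deg U hU d : Set (𝒮.presheaf.obj (op U)))))

include hflat in
theorem flat_sections_chart (n : ℤ) (U : S.Opens) (hU : IsAffineOpen U)
    {f : 𝒮.presheaf.obj (op U)} {d : ℕ} (hd : 0 < d) (hf : f ∈ 𝒮.deg U hU d) :
    letI : Module Γ(S, U) Γ(_root_.GrTwist.twist (𝒮.deg U hU) n, Proj.basicOpen (𝒮.deg U hU) f) :=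
      Module.compHom _ (phi U hU f ≫ Proj.awayToSection (𝒮.deg U hU) f).hom
    Module.Flat Γ(S, U) Γ(_root_.GrTwist.twist (𝒮.deg U hU) n, Proj.basicOpen (𝒮.deg U hU) f) := by
  obtain ⟨d₀, hflat⟩ := hflat
  letI := (𝒮.str.app (op U)).hom.toAlgebra
  letI : Module Γ(S, U) Γ(_root_.GrTwist.twist (𝒮.deg U hU) n, Proj.basicOpen (𝒮.deg U hU) f) :=
    Module.compHom _ (phi U hU f ≫ Proj.awayToSection (𝒮.deg U hU) f).hom
  refine flat_sections_twist (𝒮.deg U hU) hd hf n (fun r => 𝒮.str_mem U hU r) (fun e he => hflat e he U hU)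
    fun r t x hx => ?_
  refine (GrTw11.val_smul _ t x hx).trans ?_
  rw [← Localization.mk_one_eq_algebraMap]
  rfl

include hflat in
theorem flat_of_degrees (hP : RelProj.IsRelProj 𝒮 p chart) : Flat p := by
  rw [HasRingHomProperty.iff_exists_appLE (P := @Flat) (RingHom.Flat.stableUnderComposition.stableUnderCompositionWithLocalizationAway
    RingHom.Flat.holdsForLocalizationAway).left]
  intro x
  obtain ⟨U, hU, d, f, hd, hf, hx⟩ := exists_mem_image (chart := chart) x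
  let D := Proj.basicOpen (𝒮.deg U hU) f
  let j := RelProj.emb p chart U hU
  have e : j ''ᵁ D ≤ p ⁻¹ᵁ U := RelProj11.image_emb_le D
  refine ⟨⟨U, hU⟩, ⟨j ''ᵁ D, (Proj.isAffineOpen_basicOpen _ f hf hd).image_of_isOpenImmersion j⟩, hx, e, ?_⟩
  have hflat0 := flat_sections_chart hflat 0 U hU hd hf
  let ψ := phi U hU f ≫ Proj.awayToSection (𝒮.deg U hU) f
  have h2 : ψ = p.appLE U (j ''ᵁ D) e ≫ (j.appIso D).hom := by
    rw [Scheme.Hom.appIso_hom', Scheme.Hom.appLE_comp_appLE]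
    exact (appLE_emb_comp hP U hU hd hf _).symm
  have h3 : ψ.hom.Flat := by
    letI := ψ.hom.toAlgebra
    letI : Module Γ(S, U) Γ(_root_.GrTwist.twist (𝒮.deg U hU) 0, D) := Module.compHom _ ψ.hom
    haveI := hflat0
    have h1 : (1 : 𝒮.presheaf.obj (op U)) ∈ 𝒮.deg U hU 0 := SetLike.GradedOne.one_mem
    have hone : D ≤ Proj.basicOpen (𝒮.deg U hU) (1 : 𝒮.presheaf.obj (op U)) := by rw [Proj.basicOpen_one]; exact le_top
    have hb := bijective_smul_of_inverse (n := 0) (frac (𝒮.deg U hU) D h1 h1 (by simp) hone)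
      (frac (𝒮.deg U hU) D h1 h1 (by simp) hone) (fun x hx => by
        show Localization.mk (1 : 𝒮.presheaf.obj (op U)) _ * Localization.mk (1 : 𝒮.presheaf.obj (op U)) _ = (1 : Loc _ x)
        rw [Localization.mk_mul, ← Localization.mk_one]
        congr 1
        · exact one_mul _
        · exact Subtype.ext (one_mul _)) D le_rfl
    exact Module.Flat.of_linearEquiv (LinearEquiv.ofBijective
      ({ toFun := _, map_add' := fun a b => add_smul a b _, map_smul' := fun r a => mul_smul (ψ r) a _ } :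
        Γ(Proj (𝒮.deg U hU), D) →ₗ[Γ(S, U)] Γ(_root_.GrTwist.twist (𝒮.deg U hU) 0, D)) hb)
  have h4 : p.appLE U (j ''ᵁ D) e = ψ ≫ (j.appIso D).inv := by rw [h2, Category.assoc, Iso.hom_inv_id, Category.comp_id]
  rw [h4, CommRingCat.hom_comp]
  exact RingHom.Flat.respectsIso.left ψ.hom (j.appIso D).commRingCatIsoToRingEquiv.symm h3

include hflat in
theorem isFlatOver_twist (hP : RelProj.IsRelProj 𝒮 p chart) (n : ℤ) {L : P.Modules}
    {lam : ∀ (U : S.Opens) (hU : IsAffineOpen U),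
      L ⟶ (Scheme.Modules.pushforward (RelProj.emb p chart U hU)).obj (GrTwist.twist (𝒮.deg U hU) n)}
    (hL : RelProj.IsRelTwist 𝒮 p chart n L lam) : FlatMod.IsFlatOver p L := by
  intro x
  haveI := RelProj11.isQCoh_relTwist hL
  obtain ⟨U, hU, d, f, hd, hf, hx⟩ := exists_mem_image (chart := chart) x
  let D := Proj.basicOpen (𝒮.deg U hU) f
  let j := RelProj.emb p chart U hU
  have e : j ''ᵁ D ≤ p ⁻¹ᵁ U := RelProj11.image_emb_le D
  have hO := (Proj.isAffineOpen_basicOpen (𝒮.deg U hU) f hf hd).image_of_isOpenImmersion j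
  rw [FlatH4.isFlatOverAt_iff p L U hU (j ''ᵁ D) hO e hx]
  letI := (p.appLE U (j ''ᵁ D) e).hom.toAlgebra
  letI := FlatH4.secModuleOver p L U (j ''ᵁ D) e
  haveI : IsScalarTower Γ(S, U) Γ(P, j ''ᵁ D) Γ(L, j ''ᵁ D) := IsScalarTower.of_algebraMap_smul fun _ _ => rfl
  letI : Module Γ(S, U) Γ(_root_.GrTwist.twist (𝒮.deg U hU) n, D) :=
    Module.compHom _ (phi U hU f ≫ Proj.awayToSection (𝒮.deg U hU) f).hom
  haveI := flat_sections_chart hflat n U hU hd hf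
  have hDe : D ≤ j ⁻¹ᵁ (j ''ᵁ D) := (j.preimage_image_eq D).ge
  haveI : Module.Flat Γ(S, U) Γ(L, j ''ᵁ D) := by
    refine Module.Flat.of_linearEquiv (LinearEquiv.ofBijective
      ({ toFun := fun s => M1.mres (_root_.GrTwist.twist (𝒮.deg U hU) n) hDe ((lam U hU).app (j ''ᵁ D) s)
         map_add' := fun a b => by simp only [map_add]; exact map_add (M1.mres (_root_.GrTwist.twist (𝒮.deg U hU) n) hDe).hom _ _
         map_smul' := fun r s => ?_ } : Γ(L, j ''ᵁ D) →ₗ[Γ(S, U)] Γ(_root_.GrTwist.twist (𝒮.deg U hU) n, D)) ?_)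
    · show M1.mres _ hDe ((lam U hU).app (j ''ᵁ D) (p.appLE U (j ''ᵁ D) e r • s)) = _
      rw [Scheme.Modules.Hom.app_smul]
      let t : Γ(_root_.GrTwist.twist (𝒮.deg U hU) n, j ⁻¹ᵁ (j ''ᵁ D)) := (lam U hU).app (j ''ᵁ D) s
      show M1.mres (_root_.GrTwist.twist (𝒮.deg U hU) n) hDe ((j.app (j ''ᵁ D) (p.appLE U (j ''ᵁ D) e r) : Γ(Proj (𝒮.deg U hU), j ⁻¹ᵁ (j ''ᵁ D))) •
        t) = _
      rw [M1.mres_smul]
      congr 1
      show ((p.appLE U (j ''ᵁ D) e ≫ j.appLE (j ''ᵁ D) D hDe) r : _) = _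
      rw [Scheme.Hom.appLE_comp_appLE, appLE_emb_comp hP U hU hd hf]
      rfl
    · have hle : j ⁻¹ᵁ (j ''ᵁ D) ≤ D := (j.preimage_image_eq D).le
      let M := _root_.GrTwist.twist (𝒮.deg U hU) n
      let r₁ : Γ(M, j ⁻¹ᵁ (j ''ᵁ D)) → Γ(M, D) := fun a => M1.mres M hDe a
      let r₂ : Γ(M, D) → Γ(M, j ⁻¹ᵁ (j ''ᵁ D)) := fun a => M1.mres M hle a
      have h1 : Function.Bijective r₁ := Function.bijective_iff_has_inverse.2 ⟨r₂,
        fun a => (M1.mres_mres M hDe hle a).trans (M1.mres_id M _ a),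
        fun a => (M1.mres_mres M hle hDe a).trans (M1.mres_id M _ a)⟩
      exact h1.comp (hL.bijective U hU _ e)
  exact S2394.flat_localized (hO.primeIdealOf ⟨x, hx⟩).asIdeal.primeCompl
    (LocalizedModule.mkLinearMap (hO.primeIdealOf ⟨x, hx⟩).asIdeal.primeCompl Γ(L, j ''ᵁ D))

end Groth.Agent.Proj26
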